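import Mathlib

set_option autoImplicit false
open CategoryTheory CategoryTheory.Limits AlgebraicGeometry
universe u

namespace Groth.Agent.H75.KumFS.Sch2

/-- (SCH2) -/
theorem appLE_fromSpecStalk {X : Scheme.{u}} (x : X) (K : Type u) [CommRing K]
    [Algebra (X.presheaf.stalk x) K] (W₀ : X.Opens) (hx : x ∈ W₀)
    (hle : (⊤ : (Spec (CommRingCat.of K)).Opens) ≤
      (Spec.map (CommRingCat.ofHom (algebraMap (X.presheaf.stalk x) K)) ≫
        X.fromSpecStalk x) ⁻¹ᵁ W₀) :
    (Spec.map (CommRingCat.ofHom (algebraMap (X.presheaf.stalk x) K)) ≫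
        X.fromSpecStalk x).appLE W₀ ⊤ hle ≫ (Scheme.ΓSpecIso (CommRingCat.of K)).hom =
    X.presheaf.germ W₀ x hx ≫ CommRingCat.ofHom (algebraMap (X.presheaf.stalk x) K) := by
  rw [Scheme.Hom.comp_appLE, Scheme.fromSpecStalk_app hx]
  simp only [Category.assoc]
  rw [Scheme.Hom.map_appLE_assoc]
  have h2 : ∀ h, (Spec.map (CommRingCat.ofHom (algebraMap (X.presheaf.stalk x) K))).appLE ⊤ ⊤ h =
      (Spec.map (CommRingCat.ofHom (algebraMap (X.presheaf.stalk x) K))).appTop := by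
    intro h
    simp [Scheme.Hom.appLE]
  rw [h2, Scheme.ΓSpecIso_naturality]
  exact congrArg (X.presheaf.germ W₀ x hx ≫ ·)
    (Iso.inv_hom_id_assoc (Scheme.ΓSpecIso (X.presheaf.stalk x))
      (CommRingCat.ofHom (algebraMap (X.presheaf.stalk x) K)))

end Groth.Agent.H75.KumFS.Sch2
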