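import Mathlib
import Groth.Prelude.Def_SGA1t
import Groth.Agent.H80.KumFS_RING
import Groth.Agent.H75.KumFS.Germ
import Groth.Agent.H75.KumFS.Sch2

/-! Assembly for S3710 (Kummer scheme of a relative SNC divisor is formally smooth over the base),
given the affine etale chart (CHART) as a hypothesis. -/

set_option autoImplicit false
open CategoryTheory CategoryTheory.Limits AlgebraicGeometry
universe u

namespace Groth.Agent.H75.KumFS.Main

open Groth.Agent.H80.KumFS_RING Groth.Agent.H75.KumFS.Germ Groth.Agent.H75.KumFS.Sch2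

theorem main {X S : Scheme.{u}} (f : X ⟶ S) {r : ℕ} (φ : Fin r → Γ(X, ⊤))
    (hD : SGA1t.IsRelSNC f φ) (x : X) (hx : Nonempty (SGA1t.vanishingAt φ x))
    (n : SGA1t.vanishingAt φ x → ℕ)
    (hchart : ∀ (W : X.Opens) (d : ℕ) (v : ULift.{u} (Fin d) → Γ(W, ⊤)),
      Etale (AffineSpace.homOfVector (W.ι ≫ f) v) → ∀ x : X, x ∈ W →
      ∃ (U : S.Opens) (_ : IsAffineOpen U) (W₀ : X.Opens) (_ : IsAffineOpen W₀) (hW₀W : W₀ ≤ W)
        (hW₀U : W₀ ≤ f ⁻¹ᵁ U), x ∈ W₀ ∧
        (MvPolynomial.eval₂Hom (f.appLE U W₀ hW₀U).hom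
          (fun j => (X.presheaf.map (homOfLE hW₀W).op).hom (W.topIso.hom.hom (v j)))).Etale) :
    letI A := X.presheaf.stalk x
    letI a : SGA1t.vanishingAt φ x → A := fun i => (X.presheaf.germ ⊤ x trivial).hom (φ i.1)
    letI π : Spec (CommRingCat.of (SGA1t.kummer A a n)) ⟶ Spec (CommRingCat.of A) :=
      Spec.map (CommRingCat.ofHom (algebraMap A (SGA1t.kummer A a n)))
    ∀ x' : Spec (CommRingCat.of (SGA1t.kummer A a n)), π.base x' = IsLocalRing.closedPoint A →
      ((π ≫ X.fromSpecStalk x ≫ f).stalkMap x').hom.FormallySmooth := by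
  set a : SGA1t.vanishingAt φ x → X.presheaf.stalk x :=
    fun i => (X.presheaf.germ ⊤ x trivial).hom (φ i.1) with ha
  set π : Spec (CommRingCat.of (SGA1t.kummer (X.presheaf.stalk x) a n)) ⟶
      Spec (CommRingCat.of (X.presheaf.stalk x)) :=
    Spec.map (CommRingCat.ofHom (algebraMap (X.presheaf.stalk x)
      (SGA1t.kummer (X.presheaf.stalk x) a n))) with hπ
  intro x' _
  obtain ⟨W, hxW, d, v, e, he, het, hv⟩ := hD x hx
  obtain ⟨U, hU, W₀, hW₀, hW₀W, hW₀U, hxW₀, hét⟩ := hchart W d v het x hxW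
  have hle1 : (⊤ : (Spec (CommRingCat.of (SGA1t.kummer (X.presheaf.stalk x) a n))).Opens) ≤
      (π ≫ X.fromSpecStalk x) ⁻¹ᵁ W₀ := by
    intro z _
    have hz : (X.fromSpecStalk x) (π z) ∈ Set.range (X.fromSpecStalk x) := ⟨_, rfl⟩
    rw [Scheme.range_fromSpecStalk] at hz
    exact hz.mem_open W₀.isOpen hxW₀
  have hw : (MvPolynomial.eval₂Hom (f.appLE U W₀ hW₀U).hom
      (fun j => (X.presheaf.map (homOfLE hW₀W).op).hom (W.topIso.hom.hom (v j)))).FormallyEtale :=
    hét.formallyEtale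
  have hfun : (fun i : SGA1t.vanishingAt φ x => (X.presheaf.germ W₀ x hxW₀).hom
      ((X.presheaf.map (homOfLE hW₀W).op).hom (W.topIso.hom.hom (v (ULift.up (e i)))))) = a := by
    funext i
    rw [hv i]
    have h1 : W.topIso.hom.hom (W.topIso.inv.hom ((X.presheaf.map (homOfLE le_top).op).hom (φ i.1))) =
        (X.presheaf.map (homOfLE le_top).op).hom (φ i.1) := by
      have := congr($(W.topIso.inv_hom_id) ((X.presheaf.map (homOfLE le_top).op).hom (φ i.1)))
      exact this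
    change (X.presheaf.germ W₀ x hxW₀).hom ((X.presheaf.map (homOfLE hW₀W).op).hom
      (W.topIso.hom.hom (W.topIso.inv.hom ((X.presheaf.map (homOfLE le_top).op).hom (φ i.1))))) = _
    rw [h1]
    change (X.presheaf.germ W₀ x hxW₀) ((X.presheaf.map (homOfLE hW₀W).op)
      ((X.presheaf.map (homOfLE le_top).op) (φ i.1))) = (X.presheaf.germ ⊤ x trivial) (φ i.1)
    rw [TopCat.Presheaf.germ_res_apply, TopCat.Presheaf.germ_res_apply]
  have hR := formallySmooth_kummer (f.appLE U W₀ hW₀U).hom (X.presheaf.germ W₀ x hxW₀).hom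
    (germ_formallyEtale W₀ hW₀ x hxW₀)
    (fun j => (X.presheaf.map (homOfLE hW₀W).op).hom (W.topIso.hom.hom (v j)))
    hw (fun i => ULift.up (e i)) (fun i j hij => he (ULift.up_injective hij)) n
  rw [hfun] at hR
  have key : ∀ (g' : Spec (CommRingCat.of (SGA1t.kummer (X.presheaf.stalk x) a n)) ⟶ S)
      (_ : g' = (π ≫ X.fromSpecStalk x) ≫ f)
      (x'' : Spec (CommRingCat.of (SGA1t.kummer (X.presheaf.stalk x) a n))),
      (g'.stalkMap x'').hom.FormallySmooth := by
    rintro _ rfl x''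
    have hle : (⊤ : (Spec (CommRingCat.of (SGA1t.kummer (X.presheaf.stalk x) a n))).Opens) ≤
        ((π ≫ X.fromSpecStalk x) ≫ f) ⁻¹ᵁ U := fun z hz => hW₀U (hle1 hz)
    rw [formallySmooth_stalkMap_iff U hU ⊤ (isAffineOpen_top _) hle trivial]
    have hcomp : ((π ≫ X.fromSpecStalk x) ≫ f).appLE U ⊤ hle =
        f.appLE U W₀ hW₀U ≫ (π ≫ X.fromSpecStalk x).appLE W₀ ⊤ hle1 :=
      (Scheme.Hom.appLE_comp_appLE _ _ _ _ _ _ _).symm
    have hc := appLE_fromSpecStalk x (SGA1t.kummer (X.presheaf.stalk x) a n) W₀ hxW₀ hle1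
    have hc' : (π ≫ X.fromSpecStalk x).appLE W₀ ⊤ hle1 =
        (X.presheaf.germ W₀ x hxW₀ ≫ CommRingCat.ofHom (algebraMap (X.presheaf.stalk x)
          (SGA1t.kummer (X.presheaf.stalk x) a n))) ≫ (Scheme.ΓSpecIso _).inv := by
      rw [← hc, Category.assoc, Iso.hom_inv_id, Category.comp_id]
    have hiso : ((Scheme.ΓSpecIso (CommRingCat.of
        (SGA1t.kummer (X.presheaf.stalk x) a n))).inv).hom.FormallySmooth :=
      RingHom.FormallySmooth.of_bijective (ConcreteCategory.bijective_of_isIso _)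
    have hFS : (((π ≫ X.fromSpecStalk x) ≫ f).appLE U ⊤ hle).hom.FormallySmooth := by
      rw [hcomp, hc']
      exact hR.comp hiso
    letI := (((π ≫ X.fromSpecStalk x) ≫ f).appLE U ⊤ hle).hom.toAlgebra
    haveI : Algebra.FormallySmooth Γ(S, U)
        Γ(Spec (CommRingCat.of (SGA1t.kummer (X.presheaf.stalk x) a n)), ⊤) := hFS
    exact Algebra.FormallySmooth.comp Γ(S, U)
        Γ(Spec (CommRingCat.of (SGA1t.kummer (X.presheaf.stalk x) a n)), ⊤) _
  exact key _ (Category.assoc _ _ _).symm x'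

end Groth.Agent.H75.KumFS.Main
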